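import Groth.Prelude.Def_W4c6eohyperellchar2Gc
import Mathlib

/-!
# The operators of the explicit module on the basis
-/

universe u

open W4c6eohyperellchar2

namespace Groth.Agent.GcLib

variable {c : ℕ} {k : Type u} [Field k]

theorem coefX_X (a b : ℕ) : coefX (X c k a) b = if b = a ∧ 1 ≤ b ∧ b ≤ c then 1 else 0 := by
  unfold coefX X
  split_ifs <;> simp_all <;> omega

theorem coefY_X (a b : ℕ) : coefY (X c k a) b = 0 := by
  unfold coefY X
  split_ifs <;> rfl

theorem coefY_Y (a b : ℕ) : coefY (Y c k a) b = if b = a ∧ 1 ≤ b ∧ b ≤ c then 1 else 0 := by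
  unfold coefY Y
  split_ifs <;> simp_all <;> omega

theorem coefX_Y (a b : ℕ) : coefX (Y c k a) b = 0 := by
  unfold coefX Y
  split_ifs <;> rfl

theorem F_X_even {a : ℕ} (h1 : 1 ≤ a) (h2 : 2 * a ≤ c) : F c k (X c k (2 * a)) = X c k a := by
  unfold F
  refine Prod.ext (funext fun i => ?_) (funext fun i => ?_) <;> have := i.isLt <;> simp only [coefX_X] <;>
    simp only [X, Pi.zero_apply] <;> split_ifs <;> simp <;> omega

theorem F_X_odd {a : ℕ} (h2 : 2 * a + 1 ≤ c) : F c k (X c k (2 * a + 1)) = Y c k (c - a) := by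
  unfold F
  refine Prod.ext (funext fun i => ?_) (funext fun i => ?_) <;> have := i.isLt <;> simp only [coefX_X] <;>
    simp only [Y, Pi.zero_apply] <;> split_ifs <;> simp <;> omega

variable [CharP k 2] [PerfectRing k 2]

theorem V_X {j : ℕ} (h1 : c < 2 * j) (h2 : j ≤ c) : V c k (X c k j) = Y c k (2 * c - 2 * j + 1) := by
  unfold V
  refine Prod.ext rfl (funext fun i => ?_)
  have := i.isLt
  simp only [coefY_X, coefX_X]
  simp only [Y]
  split_ifs <;> simp <;> omega

theorem V_Y {a : ℕ} (h1 : 1 ≤ a) (h2 : 2 * a ≤ c) : V c k (Y c k a) = Y c k (2 * a) := by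
  unfold V
  refine Prod.ext rfl (funext fun i => ?_)
  have := i.isLt
  simp only [coefY_Y, coefX_Y]
  simp only [Y]
  split_ifs <;> simp <;> omega

end Groth.Agent.GcLib
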